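import Cfsg.Agent.Lib.Struct78.MaxClassPower.Layers

/-!
In a group of maximal class every subgroup has index at most `p ^ p` over the subgroup generated by its
`p`-th powers.
-/

set_option autoImplicit false
set_option linter.style.haveILetI false

namespace CfsgLib.MaxClassPower

open Subgroup CfsgLib.MaxClassRank
open scoped commutatorElement

variable {G : Type*} [Group G] [Finite G] {p n : ℕ} [hp : Fact p.Prime]

local notation "L" => Subgroup.lowerCentralSeries (⊤ : Subgroup G)

variable (hG : Nat.card G = p ^ n) (hn : 3 ≤ n) (hbot : (⊤ : Subgroup G).lowerCentralSeries (n - 1) = ⊥)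
  (hne : (⊤ : Subgroup G).lowerCentralSeries (n - 2) ≠ ⊥)

include hG hn hbot hne

/-- A normal subgroup of `L 1` reaches every term below its deepest element. -/
theorem lcs_le_of_not_le (P : Subgroup G) [P.Normal] (hP : P ≤ L 1) {m : ℕ} (hm : 1 ≤ m)
    (hnot : ¬ P ≤ L m) : L (m - 1) ≤ P := by
  classical
  obtain ⟨z, hz, hzm⟩ := SetLike.not_le_iff_exists.mp hnot
  -- the last term containing `z`
  have hex : ∃ j, z ∉ L j := ⟨m, hzm⟩
  obtain ⟨j, hj⟩ : ∃ j, Nat.find hex = j + 1 := ⟨Nat.find hex - 1, by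
    have : Nat.find hex ≠ 0 := fun h => by
      have := Nat.find_spec hex
      rw [h, Subgroup.lowerCentralSeries_zero] at this
      exact this (mem_top z)
    omega⟩
  have hz2 : z ∉ L (j + 1) := hj ▸ Nat.find_spec hex
  have hz1 : z ∈ L j := by
    by_contra h
    have := Nat.find_min' hex h
    omega
  have hjm : j + 1 ≤ m := hj ▸ Nat.find_min' hex hzm
  have hj1 : 1 ≤ j := by
    rcases Nat.eq_zero_or_pos j with rfl | h
    · exact absurd (hP hz) hz2
    · exact h
  have hjn : j + 2 ≤ n := by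
    by_contra h
    have h1 : z ∈ L (n - 1) := lcs_anti (by omega) hz1
    rw [hbot, Subgroup.mem_bot] at h1
    exact hz2 (h1 ▸ one_mem _)
  have hstep : ∀ l, L (j + l) ≤ L (j + l + 1) ⊔ P := by
    intro l
    induction l with
    | zero =>
      exact (le_sup_zpowers hG hn hbot hne hj1 hjn hz1 hz2).trans
        (sup_le_sup_left (zpowers_le.mpr hz) _)
    | succ l ih =>
      rw [← Nat.add_assoc, Subgroup.lowerCentralSeries_succ (n := j + l), commutator_le]
      intro u hu y _
      obtain ⟨v, hv, w, hw, rfl⟩ := Subgroup.mem_sup_of_normal_right.mp (ih hu)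
      rw [show ⁅v * w, y⁆ = v * ⁅w, y⁆ * v⁻¹ * ⁅v, y⁆ by simp only [commutatorElement_def]; group]
      refine mul_mem (mem_sup_right ((inferInstance : P.Normal).conj_mem _ ?_ v))
        (mem_sup_left (lcs_comm_top hv y))
      rw [commutatorElement_def, mul_assoc, mul_assoc]
      exact P.mul_mem hw (by
        rw [← mul_assoc]
        exact (inferInstance : P.Normal).conj_mem _ (P.inv_mem hw) y)
  have hall : ∀ l, L j ≤ L (j + l) ⊔ P := by
    intro l
    induction l with
    | zero => exact le_sup_left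
    | succ l ih => exact ih.trans (sup_le (hstep l) le_sup_right)
  refine le_trans ((⊤ : Subgroup G).lowerCentralSeries_antitone (by omega : j ≤ m - 1)) ?_
  refine (hall (n - 1 - j)).trans (sup_le ?_ le_rfl)
  rw [show j + (n - 1 - j) = n - 1 by omega, hbot]
  exact bot_le

/-- The whole group. -/
theorem card_le_of_top (hpn : p + 1 ≤ n) (P : Subgroup G) [P.Normal] (hP : P ≤ L 1)
    (hpow : ∀ x : G, x ^ p ∈ P) : p ^ n ≤ p ^ p * Nat.card P := by
  have hp2 := hp.out.two_le
  obtain ⟨x, hx⟩ := exists_pow_not_mem hG hn hbot hne hpn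
  have h := Subgroup.card_le_of_le
    (lcs_le_of_not_le hG hn hbot hne P hP (m := p) (by omega) (fun h => hx (h (hpow x))))
  rw [card_lcs hG hn hbot hne (p - 1) (by omega) (by omega)] at h
  calc p ^ n = p ^ p * p ^ (n - 1 - (p - 1)) := by rw [← pow_add]; congr 1; omega
    _ ≤ _ := Nat.mul_le_mul_left _ h

/-- Each layer of a subgroup has order at most `p`. -/
theorem card_inf_lcs_le (H : Subgroup G) {a : ℕ} (ha : 1 ≤ a) (han : a + 2 ≤ n) :
    Nat.card (H ⊓ L a : Subgroup G) ≤ p * Nat.card (H ⊓ L (a + 1) : Subgroup G) := by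
  have hle : L (a + 1) ≤ L a := (⊤ : Subgroup G).lowerCentralSeries_antitone (Nat.le_succ a)
  have h1 := Subgroup.card_mul_index ((L (a + 1)).subgroupOf (L a))
  rw [Nat.card_congr (subgroupOfEquivOfLe hle).toEquiv, card_lcs hG hn hbot hne _ (by omega) (by omega),
    card_lcs hG hn hbot hne a ha (by omega),
    show p ^ (n - 1 - a) = p ^ (n - 1 - (a + 1)) * p by rw [← pow_succ]; congr 1; omega] at h1
  have h2 : (L (a + 1)).relIndex (L a) = p := Nat.eq_of_mul_eq_mul_left (pow_pos hp.out.pos _) h1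
  have h3 : (L (a + 1)).relIndex (H ⊓ L a) ≤ p :=
    le_of_le_of_eq (relIndex_le_of_le_right inf_le_right (by rw [h2]; exact hp.out.ne_zero)) h2
  have h4 := Subgroup.card_mul_index ((L (a + 1)).subgroupOf (H ⊓ L a))
  have h5 : Nat.card ((L (a + 1)).subgroupOf (H ⊓ L a)) = Nat.card (H ⊓ L (a + 1) : Subgroup G) := by
    rw [← inf_subgroupOf_right, Nat.card_congr (subgroupOfEquivOfLe inf_le_right).toEquiv]
    congr 2
    rw [inf_comm, inf_assoc, inf_eq_right.mpr hle]
  rw [h5] at h4
  rw [← h4, mul_comm p]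
  exact Nat.mul_le_mul_left _ h3

/-- The layers reached by the `p`-th powers of a subgroup. -/
theorem card_inf_le_pow (hpn : p + 1 ≤ n) (H P : Subgroup G) (hpow : ∀ x ∈ H, x ^ p ∈ P) :
    ∀ d a, 1 ≤ a → n ≤ a + p + d →
      Nat.card (H ⊓ L a : Subgroup G) ≤ p ^ (p - 1) * Nat.card (P ⊓ L (a + p - 1) : Subgroup G) := by
  have hp2 := hp.out.two_le
  have hsmall : ∀ a, 1 ≤ a → n ≤ a + p →
      Nat.card (H ⊓ L a : Subgroup G) ≤ p ^ (p - 1) * Nat.card (P ⊓ L (a + p - 1) : Subgroup G) := by
    intro a ha hna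
    refine le_trans ?_ (Nat.le_mul_of_pos_right _ Nat.card_pos)
    rcases Nat.lt_or_ge a n with han | han
    · refine (Subgroup.card_le_of_le inf_le_right).trans ?_
      rw [card_lcs hG hn hbot hne a ha (by omega)]
      exact Nat.pow_le_pow_right hp.out.pos (by omega)
    · refine (Subgroup.card_le_of_le (K := ⊥) (inf_le_right.trans ?_)).trans ?_
      · rw [← hbot]
        exact (⊤ : Subgroup G).lowerCentralSeries_antitone (by omega)
      · rw [card_bot]
        exact Nat.one_le_pow _ _ hp.out.pos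
  intro d
  induction d with
  | zero => exact fun a ha hna => hsmall a ha (by omega)
  | succ d ih =>
    intro a ha hna
    rcases Nat.lt_or_ge (a + p) n with hap | hap
    swap
    · exact hsmall a ha hap
    have h1 := ih (a + 1) (by omega) (by omega)
    rw [show a + 1 + p - 1 = a + p by omega] at h1
    have hle : P ⊓ L (a + p) ≤ P ⊓ L (a + p - 1) :=
      inf_le_inf_left _ ((⊤ : Subgroup G).lowerCentralSeries_antitone (by omega))
    by_cases hD : H ⊓ L a ≤ L (a + 1)
    · refine (Subgroup.card_le_of_le (le_inf inf_le_left hD)).trans (h1.trans ?_)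
      exact Nat.mul_le_mul_left _ (Subgroup.card_le_of_le hle)
    obtain ⟨x, hx, hx'⟩ := SetLike.not_le_iff_exists.mp hD
    obtain ⟨hxH, hxa⟩ := Subgroup.mem_inf.mp hx
    have hlt : P ⊓ L (a + p) < P ⊓ L (a + p - 1) := lt_of_le_not_ge hle fun h =>
      pow_not_mem hG hn hbot hne hpn a ha (by omega) x hxa hx' (Subgroup.mem_inf.mp
        (h (Subgroup.mem_inf.mpr ⟨hpow x hxH, pow_mem_shift hG hn hbot hne hpn ha x hxa⟩))).2
    calc Nat.card (H ⊓ L a : Subgroup G) ≤ p * Nat.card (H ⊓ L (a + 1) : Subgroup G) :=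
          card_inf_lcs_le hG hn hbot hne H ha (by omega)
      _ ≤ p * (p ^ (p - 1) * Nat.card (P ⊓ L (a + p) : Subgroup G)) := Nat.mul_le_mul_left _ h1
      _ = p ^ (p - 1) * (p * Nat.card (P ⊓ L (a + p) : Subgroup G)) := by ring
      _ ≤ _ := Nat.mul_le_mul_left _
          (CfsgLib.Fusion.MaxClass.mul_card_le_of_lt (IsPGroup.of_card hG) hlt)

/-- A proper subgroup. -/
theorem card_le_of_ne_top (hpn : p + 1 ≤ n) (H P : Subgroup G) (hH : H ≠ ⊤)
    (hpow : ∀ x ∈ H, x ^ p ∈ P) : Nat.card H ≤ p ^ p * Nat.card P := by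
  have hp2 := hp.out.two_le
  have hGp := IsPGroup.of_card hG
  haveI : Group.IsNilpotent G := hGp.isNilpotent
  obtain ⟨hab, -⟩ := abelianization_props hG hn hbot hne
  have hidx : (L 1).index = p ^ 2 := by rw [index_eq_card, hab]
  have hr : (L 1).relIndex H ≤ p := by
    obtain ⟨k, hk, hk'⟩ := (Nat.dvd_prime_pow hp.out).mp
      (hidx ▸ relIndex_dvd_index_of_normal (L 1) H)
    rw [hk']
    rcases Nat.lt_or_ge k 2 with h | h
    · exact (Nat.pow_le_pow_right hp.out.pos (by omega : k ≤ 1)).trans (pow_one p).le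
    exfalso
    have h1 := relIndex_mul_index (H := L 1) (K := H ⊔ L 1) le_sup_right
    rw [relIndex_sup_right, hk', hidx, show k = 2 by omega] at h1
    have h2 : H ⊔ L 1 = ⊤ := index_eq_one.mp
      (Nat.eq_of_mul_eq_mul_left (pow_pos hp.out.pos 2) (h1.trans (mul_one _).symm))
    refine hH (frattini_nongenerating (eq_top_iff.mpr (h2.ge.trans (sup_le_sup_left ?_ _))))
    rw [Subgroup.top_lowerCentralSeries_one]
    exact CfsgLib.PGroup.commutator_le_frattini hGp
  have h1 := Subgroup.card_mul_index ((L 1).subgroupOf H)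
  have h2 : Nat.card ((L 1).subgroupOf H) = Nat.card (H ⊓ L 1 : Subgroup G) := by
    rw [← inf_subgroupOf_right, inf_comm, Nat.card_congr (subgroupOfEquivOfLe inf_le_left).toEquiv]
  rw [h2] at h1
  calc Nat.card H = Nat.card (H ⊓ L 1 : Subgroup G) * ((L 1).subgroupOf H).index := h1.symm
    _ ≤ p ^ (p - 1) * Nat.card (P ⊓ L (1 + p - 1) : Subgroup G) * p :=
        Nat.mul_le_mul (card_inf_le_pow hG hn hbot hne hpn H P hpow n 1 le_rfl (by omega)) hr
    _ ≤ p ^ (p - 1) * Nat.card P * p :=
        Nat.mul_le_mul_right _ (Nat.mul_le_mul_left _ (Subgroup.card_le_of_le inf_le_left))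
    _ = p ^ (p - 1 + 1) * Nat.card P := by rw [pow_succ]; ring
    _ = p ^ p * Nat.card P := by rw [show p - 1 + 1 = p by omega]

end CfsgLib.MaxClassPower

namespace CfsgLib.MaxClassPower

open Subgroup

/-- `[H : ℧₁(H)] ≤ p ^ p` in a group of maximal class. -/
theorem relIndex_powers_le {X : Type*} [Group X] [Finite X] {p : ℕ} [hp : Fact p.Prime] (n : ℕ)
    (hn : 2 ≤ n) (hX : Nat.card X = p ^ n) (hmax : Group.nilpotencyClass X = n - 1) (H : Subgroup X) :
    (closure {y : X | ∃ h ∈ H, y = h ^ p}).relIndex H ≤ p ^ p := by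
  have hp2 := hp.out.two_le
  set P := closure {y : X | ∃ h ∈ H, y = h ^ p}
  have hPH : P ≤ H := (closure_le H).mpr (by rintro _ ⟨h, hh, rfl⟩; exact H.pow_mem hh p)
  have hpow : ∀ x ∈ H, x ^ p ∈ P := fun x hx => subset_closure ⟨x, hx, rfl⟩
  have hmul : Nat.card P * P.relIndex H = Nat.card H := by
    have h := Subgroup.card_mul_index (P.subgroupOf H)
    rwa [Nat.card_congr (subgroupOfEquivOfLe hPH).toEquiv] at h
  suffices h : Nat.card H ≤ p ^ p * Nat.card P by
    refine Nat.le_of_mul_le_mul_left ?_ (Nat.card_pos (α := P))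
    rw [hmul, mul_comm]
    exact h
  rcases Nat.lt_or_ge n (p + 1) with hnp | hnp
  · calc Nat.card H ≤ Nat.card X := Subgroup.card_le_card_group H
      _ ≤ p ^ p := hX ▸ Nat.pow_le_pow_right hp.out.pos (by omega)
      _ ≤ _ := Nat.le_mul_of_pos_right _ Nat.card_pos
  haveI : Group.IsNilpotent X := (IsPGroup.of_card hX).isNilpotent
  have hbot : (⊤ : Subgroup X).lowerCentralSeries (n - 1) = ⊥ :=
    Subgroup.lowerCentralSeries_eq_bot_iff_nilpotencyClass_le.mpr hmax.le
  have hne : (⊤ : Subgroup X).lowerCentralSeries (n - 2) ≠ ⊥ := fun e => by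
    have := Subgroup.lowerCentralSeries_eq_bot_iff_nilpotencyClass_le.mp e; omega
  by_cases hH : H = ⊤
  · subst hH
    haveI : P.Normal := ⟨fun y hy g => by
      induction hy using Subgroup.closure_induction with
      | mem y hy =>
        obtain ⟨h, -, rfl⟩ := hy
        rw [← conj_pow]
        exact hpow _ (mem_top _)
      | one => simp
      | mul a b _ _ ha hb =>
        rw [show g * (a * b) * g⁻¹ = g * a * g⁻¹ * (g * b * g⁻¹) by group]
        exact mul_mem ha hb
      | inv a _ ha =>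
        rw [show g * a⁻¹ * g⁻¹ = (g * a * g⁻¹)⁻¹ by group]
        exact inv_mem ha⟩
    have hP1 : P ≤ (⊤ : Subgroup X).lowerCentralSeries 1 := (closure_le _).mpr (by
      rintro _ ⟨h, -, rfl⟩
      exact (CfsgLib.MaxClassRank.abelianization_props hX (by omega) hbot hne).2 h)
    rw [card_top, hX]
    exact card_le_of_top hX (by omega) hbot hne hnp P hP1 fun x => hpow x (mem_top x)
  · exact card_le_of_ne_top hX (by omega) hbot hne hnp H P hH hpow

end CfsgLib.MaxClassPower
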