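import Cfsg.Agent.Lib.Struct78.MaxClassPower.Model

/-!
The Engel congruence: in a filtered group where `p`-th powers of products are trivial to order `p`,
the iterated commutator of length `p` lies deep.
-/

set_option autoImplicit false
set_option linter.style.haveILetI false

namespace CfsgLib.MaxClassPower

open Subgroup
open scoped commutatorElement IsMulCommutative

/-! Powers with exponents in `ZMod p`. -/

section PowVal

variable {A : Type*} [CommGroup A] {p : ℕ} [Fact p.Prime]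

theorem pow_eq_pow_val {x : A} (hx : x ^ p = 1) (m : ℕ) : x ^ m = x ^ (m : ZMod p).val := by
  rw [ZMod.val_natCast]
  conv_lhs => rw [← Nat.mod_add_div m p, pow_add, pow_mul, hx, one_pow, mul_one]

theorem pow_val_add {x : A} (hx : x ^ p = 1) (a b : ZMod p) :
    x ^ (a + b).val = x ^ a.val * x ^ b.val := by
  rw [← pow_add, pow_eq_pow_val hx (a.val + b.val), Nat.cast_add, ZMod.natCast_zmod_val,
    ZMod.natCast_zmod_val]

theorem pow_val_mul {x : A} (hx : x ^ p = 1) (a b : ZMod p) :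
    (x ^ a.val) ^ b.val = x ^ (a * b).val := by
  rw [← pow_mul, pow_eq_pow_val hx (a.val * b.val), Nat.cast_mul, ZMod.natCast_zmod_val,
    ZMod.natCast_zmod_val]

theorem pow_val_neg {x : A} (hx : x ^ p = 1) (a : ZMod p) : x ^ (-a).val = (x ^ a.val)⁻¹ := by
  refine eq_inv_of_mul_eq_one_left ?_
  rw [← pow_val_add hx, neg_add_cancel, ZMod.val_zero, pow_zero]

theorem sum_range_eq (i : ℕ) :
    ∑ k ∈ Finset.range p, (k : ZMod p) ^ i = ∑ x : ZMod p, x ^ i := by
  refine Finset.sum_bij' (fun k _ => (k : ZMod p)) (fun x _ => x.val) (fun _ _ => Finset.mem_univ _)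
    (fun x _ => Finset.mem_range.mpr (ZMod.val_lt x)) (fun k hk => ?_) (fun x _ => ?_) (fun _ _ => rfl)
  · exact ZMod.val_natCast_of_lt (Finset.mem_range.mp hk)
  · exact ZMod.natCast_zmod_val x

theorem prod_pow_range {x : A} (hx : x ^ p = 1) (i : ℕ) :
    ∏ k ∈ Finset.range p, x ^ (k ^ i) = x ^ (∑ y : ZMod p, y ^ i).val := by
  rw [Finset.prod_pow_eq_pow_sum, pow_eq_pow_val hx, Nat.cast_sum, ← sum_range_eq]
  simp only [Nat.cast_pow]

theorem sum_pow_eq_zero {i : ℕ} (hi : i + 2 ≤ p) : ∑ y : ZMod p, y ^ i = 0 :=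
  FiniteField.sum_pow_lt_card_sub_one (ZMod p) i (by rw [ZMod.card]; omega)

end PowVal

/-- The hypotheses of the congruence. -/
structure Hyp {Q : Type*} [Group Q] (p : ℕ) (M : ℕ → Subgroup Q) (c : ℕ → Q) (s : Q) : Prop where
  anti : Antitone M
  comm : ∀ l, ⁅M l, (⊤ : Subgroup Q)⁆ ≤ M (l + 1)
  hc : ∀ k, ⁅c k, s⁆ ∈ M 0
  hcs : ∀ k, (⁅c 1, s⁆ ^ k)⁻¹ * ⁅c k, s⁆ ∈ M 1
  hlin : ∀ l, ∀ x ∈ M l, ∀ k, (⁅x, c 1⁆ ^ k)⁻¹ * ⁅x, c k⁆ ∈ M (l + 2)
  hpow : ∀ x ∈ M 0, x ^ p ∈ M (p - 1)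
  hprod : ∀ k, ((c k) ^ p * s ^ p)⁻¹ * (c k * s) ^ p ∈ M (p - 1)

/-- The iterated commutators. -/
def iter {Q : Type*} [Group Q] (a s : Q) : ℕ → Q
  | 0 => ⁅a, s⁆
  | l + 1 => ⁅iter a s l, s⁆

variable {Q : Type*} [Group Q] {p : ℕ} [Fact p.Prime] {M : ℕ → Subgroup Q} [∀ l, (M l).Normal]
  {c : ℕ → Q} {s : Q}

namespace Hyp

omit [Fact p.Prime] in
theorem mem_center (h : Hyp p M c s) {l : ℕ} {x : Q} (hx : x ∈ M l) :
    (x : Q ⧸ M (l + 1)) ∈ center (Q ⧸ M (l + 1)) := by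
  rw [mem_center_iff]
  intro z
  obtain ⟨y, rfl⟩ := QuotientGroup.mk'_surjective (M (l + 1)) z
  refine (commutatorElement_eq_one_iff_mul_comm.mp ?_).symm
  show ⁅QuotientGroup.mk' (M (l + 1)) x, QuotientGroup.mk' (M (l + 1)) y⁆ = 1
  rw [← map_commutatorElement]
  exact (QuotientGroup.eq_one_iff _).mpr (h.comm l (commutator_mem_commutator hx (mem_top y)))

omit [Fact p.Prime] in
theorem comm_mem (h : Hyp p M c s) {l : ℕ} {x : Q} (hx : x ∈ M l) (a : Q) : ⁅x, a⁆ ∈ M (l + 1) :=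
  h.comm l (commutator_mem_commutator hx (mem_top a))

/-- The class in the layer. -/
def cls (h : Hyp p M c s) (l : ℕ) : M l →* center (Q ⧸ M (l + 1)) :=
  ((QuotientGroup.mk' (M (l + 1))).comp (M l).subtype).codRestrict _ fun x => h.mem_center x.2

/-- The commutator with a fixed element. -/
def br (h : Hyp p M c s) (l : ℕ) (a : Q) : M l →* center (Q ⧸ M (l + 1 + 1)) :=
  MonoidHom.codRestrict
    (MonoidHom.mk' (fun x : M l => ((⁅(x : Q), a⁆ : Q) : Q ⧸ M (l + 1 + 1))) fun x y => by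
      show ((⁅(x : Q) * y, a⁆ : Q) : Q ⧸ M (l + 1 + 1)) = _
      rw [show ⁅(x : Q) * y, a⁆ = x * ⁅(y : Q), a⁆ * (x : Q)⁻¹ * ⁅(x : Q), a⁆ by
        simp only [commutatorElement_def]; group]
      have hy := mem_center_iff.mp (h.mem_center (h.comm_mem y.2 a))
      simp only [QuotientGroup.mk_mul, QuotientGroup.mk_inv]
      rw [hy, mul_inv_cancel_right, ← hy])
    _ fun x => h.mem_center (h.comm_mem x.2 a)

omit [Fact p.Prime] in
theorem cls_eq_one_iff (h : Hyp p M c s) {l : ℕ} {x : M l} :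
    h.cls l x = 1 ↔ (x : Q) ∈ M (l + 1) := by
  rw [Subtype.ext_iff]
  exact QuotientGroup.eq_one_iff _

omit [Fact p.Prime] in
theorem br_eq_one (h : Hyp p M c s) {l : ℕ} (a : Q) {x : M l} (hx : h.cls l x = 1) :
    h.br l a x = 1 := by
  rw [Subtype.ext_iff]
  exact (QuotientGroup.eq_one_iff _).mpr (h.comm_mem (h.cls_eq_one_iff.mp hx) a)

omit [Fact p.Prime] in
theorem br_eq_cls (h : Hyp p M c s) {l : ℕ} (a : Q) (x : M l) :
    h.br l a x = h.cls (l + 1) ⟨⁅(x : Q), a⁆, h.comm_mem x.2 a⟩ := rfl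

theorem cls_pow (h : Hyp p M c s) {l : ℕ} (hl : l + 2 ≤ p) (x : M l) : h.cls l x ^ p = 1 := by
  rw [← map_pow, h.cls_eq_one_iff]
  exact h.anti (by omega : l + 1 ≤ p - 1) (by simpa using h.hpow _ (h.anti (Nat.zero_le l) x.2))

omit [Fact p.Prime] in
theorem cls_lin (h : Hyp p M c s) {l : ℕ} (x : M l) (k : ℕ) :
    h.cls (l + 1) ⟨⁅(x : Q), c k⁆, h.comm_mem x.2 (c k)⟩ = h.br l (c 1) x ^ k := by
  rw [h.br_eq_cls, ← map_pow, ← inv_mul_eq_one, ← map_inv, ← map_mul, h.cls_eq_one_iff]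
  have := (M (l + 1 + 1)).inv_mem (h.hlin l x x.2 k)
  simpa [mul_inv_rev] using this

end Hyp

/-- The moment of a function through a homomorphism. -/
def mu {B A : Type*} [Group B] [CommGroup A] (φ : B →* A) (p e : ℕ) (f : ℕ → B) : A :=
  ∏ k ∈ Finset.range p, φ (f k) ^ (k ^ e)

section Mu

variable {B A A' : Type*} [Group B] [CommGroup A] [CommGroup A'] (φ : B →* A) (e : ℕ)

omit [Fact p.Prime] in
theorem mu_mul (f g : ℕ → B) : mu φ p e (f * g) = mu φ p e f * mu φ p e g := by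
  simp only [mu, Pi.mul_apply, map_mul, mul_pow, Finset.prod_mul_distrib]

omit [Fact p.Prime] in
theorem mu_inv (f : ℕ → B) : mu φ p e f⁻¹ = (mu φ p e f)⁻¹ := by
  simp only [mu, Pi.inv_apply, map_inv, inv_pow, Finset.prod_inv_distrib]

omit [Fact p.Prime] in
theorem mu_eq_one (f : ℕ → B) (hf : ∀ k, φ (f k) = 1) : mu φ p e f = 1 :=
  Finset.prod_eq_one fun k _ => by rw [hf, one_pow]

omit [Fact p.Prime] in
theorem map_list_prod_eq_mu (f : ℕ → B) :
    φ (((List.range p).map fun k => f k ^ (k ^ e)).prod) = mu φ p e f := by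
  rw [map_list_prod, List.map_map, mu, ← List.toFinset_range, List.prod_toFinset _ List.nodup_range]
  congr 1
  exact List.map_congr_left fun k _ => map_pow φ _ _

omit [Fact p.Prime] in
theorem mu_transfer (ψ : B →* A') (hker : ∀ b, φ b = 1 → ψ b = 1) {f : ℕ → B} {E : B} {a b : ℕ}
    (h : mu φ p e f ^ a = φ E ^ b) : mu ψ p e f ^ a = ψ E ^ b := by
  set L : B := ((List.range p).map fun k => f k ^ (k ^ e)).prod
  rw [← map_list_prod_eq_mu ψ]
  rw [← map_list_prod_eq_mu φ, ← map_pow, ← map_pow, ← inv_mul_eq_one, ← map_inv, ← map_mul] at h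
  rw [← map_pow, ← map_pow, ← inv_mul_eq_one, ← map_inv, ← map_mul]
  exact hker _ h

end Mu

namespace Hyp

/-- The product with the model. -/
abbrev W (Q : Type*) (p : ℕ) := (ℕ → Q) × Equiv.Perm (ZMod p × ZMod p)

/-- The `l`-th term of the bound for the lower central series. -/
def layer (h : Hyp p M c s) (l : ℕ) (hl : l + 2 ≤ p) (he : iter (c 1) s l ∈ M l) (ε : ZMod p) :
    Subgroup (W Q p) where
  carrier := {x | ∃ (f : ℕ → M l) (g : ZMod p → ZMod p), (∀ k, x.1 k = f k) ∧ x.2 = tau p g ∧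
    (∀ e, e ≤ l → mom e g = 0) ∧ h.cls l (f 0) = 1 ∧
    (∀ e, e + l + 3 ≤ p → mu (h.cls l) p e f = 1) ∧
    mu (h.cls l) p (p - 2) f ^ ε.val = h.cls l ⟨_, he⟩ ^ (mom (l + 1) g).val}
  one_mem' := ⟨1, 0, fun k => by simp, (tau_zero).symm, fun e _ => mom_zero e, map_one _,
    fun e _ => mu_eq_one _ _ _ fun k => by simp,
    by rw [mu_eq_one _ _ _ fun k => by simp, mom_zero]; simp⟩
  mul_mem' := by
    rintro x y ⟨f, g, hf, hg, hm, h0, hμ, hr⟩ ⟨f', g', hf', hg', hm', h0', hμ', hr'⟩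
    refine ⟨f * f', g + g', fun k => by simp [hf, hf'], ?_, fun e he => ?_, ?_, fun e he => ?_, ?_⟩
    · rw [Prod.snd_mul, hg, hg', tau_mul]
    · rw [mom_add, hm e he, hm' e he, add_zero]
    · rw [Pi.mul_apply, map_mul, h0, h0', mul_one]
    · rw [mu_mul, hμ e he, hμ' e he, mul_one]
    · rw [mu_mul, mul_pow, hr, hr', mom_add, pow_val_add (h.cls_pow hl _)]
  inv_mem' := by
    rintro x ⟨f, g, hf, hg, hm, h0, hμ, hr⟩
    refine ⟨f⁻¹, -g, fun k => by simp [hf], ?_, fun e he => ?_, ?_, fun e he => ?_, ?_⟩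
    · rw [Prod.snd_inv, hg, tau_inv]
    · rw [mom_neg, hm e he, neg_zero]
    · rw [Pi.inv_apply, map_inv, h0, inv_one]
    · rw [mu_inv, hμ e he, inv_one]
    · rw [mu_inv, inv_pow, hr, mom_neg, pow_val_neg (h.cls_pow hl _)]

omit [Fact p.Prime] [∀ l, (M l).Normal] in
theorem iter_mem (h : Hyp p M c s) : ∀ l, iter (c 1) s l ∈ M l
  | 0 => h.hc 1
  | l + 1 => h.comm l (commutator_mem_commutator (iter_mem h l) (mem_top s))

/-- The generators. -/
def gen₁ (c : ℕ → Q) : W Q p := (c, tau p delta)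

/-- The generators. -/
def gen₂ (s : Q) : W Q p := (fun _ => s, sigma p)

theorem mem_layer_of_deep (h : Hyp p M c s) {l : ℕ} (hl : l + 2 ≤ p) (ε : ZMod p) {x : W Q p}
    {g : ZMod p → ZMod p} (hx : ∀ k, x.1 k ∈ M (l + 1)) (hg : x.2 = tau p g)
    (hm : ∀ e, e ≤ l + 1 → mom e g = 0) : x ∈ h.layer l hl (h.iter_mem l) ε := by
  have h1 : ∀ k, h.cls l ⟨x.1 k, h.anti (Nat.le_succ l) (hx k)⟩ = 1 := fun k =>
    h.cls_eq_one_iff.mpr (hx k)
  refine ⟨fun k => ⟨x.1 k, h.anti (Nat.le_succ l) (hx k)⟩, g, fun k => rfl, hg,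
    fun e he => hm e (by omega), h1 0, fun e _ => mu_eq_one _ _ _ h1, ?_⟩
  rw [mu_eq_one _ _ _ h1, one_pow, hm (l + 1) le_rfl, ZMod.val_zero, pow_zero]

theorem commutator_gen_mem_self (h : Hyp p M c s) {l : ℕ} (hl : l + 2 ≤ p) (ε : ZMod p) {x : W Q p}
    (hx : x ∈ h.layer l hl (h.iter_mem l) ε) {a : W Q p} (ha : a = gen₁ c ∨ a = gen₂ s) :
    ⁅x, a⁆ ∈ h.layer l hl (h.iter_mem l) ε := by
  obtain ⟨f, g, hf, hg, hm, -, -, -⟩ := hx
  have h1 : ∀ k, ⁅x, a⁆.1 k ∈ M (l + 1) := fun k => by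
    show ⁅x.1 k, a.1 k⁆ ∈ M (l + 1)
    rw [hf]; exact h.comm_mem (f k).2 _
  rcases ha with rfl | rfl
  · refine h.mem_layer_of_deep hl ε (g := 0) h1 ?_ fun e _ => mom_zero e
    show ⁅x.2, tau p delta⁆ = tau p 0
    rw [hg, tau_zero, commutatorElement_eq_one_iff_mul_comm, tau_mul, tau_mul, add_comm]
  · refine h.mem_layer_of_deep hl ε (g := diff g) h1 ?_ fun e he => ?_
    · show ⁅x.2, sigma p⁆ = tau p (diff g)
      rw [hg, commutator_tau_sigma]
    · rw [mom_diff, neg_eq_zero]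
      refine Finset.sum_eq_zero fun i hi => ?_
      rw [Finset.mem_range] at hi
      rw [hm i (by omega), mul_zero]

theorem commutator_gen_mem_succ (h : Hyp p M c s) {l : ℕ} (hl : l + 1 + 2 ≤ p) (ε : ZMod p)
    {x : W Q p} (hx : x ∈ h.layer l (by omega) (h.iter_mem l) ε) {a : W Q p}
    (ha : a = gen₁ c ∨ a = gen₂ s) :
    ⁅x, a⁆ ∈ h.layer (l + 1) hl (h.iter_mem (l + 1)) (-((l + 2 : ℕ) : ZMod p) * ε) := by
  obtain ⟨f, g, hf, hg, hm, h0, hμ, hr⟩ := hx
  have htr : ∀ a' e, e + l + 3 ≤ p → mu (h.br l a') p e f = 1 := fun a' e he => by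
    have := mu_transfer (p := p) (h.cls l) e (h.br l a') (fun b => h.br_eq_one a') (f := f) (E := 1)
      (a := 1) (b := 0) (by rw [pow_one, pow_zero, hμ e he])
    simpa using this
  rcases ha with rfl | rfl
  · refine ⟨fun k => ⟨⁅(f k : Q), c k⁆, h.comm_mem (f k).2 _⟩, 0, fun k => ?_, ?_,
      fun e _ => mom_zero e, ?_, fun e he => ?_, ?_⟩
    · show ⁅x.1 k, c k⁆ = _; rw [hf]
    · show ⁅x.2, tau p delta⁆ = tau p 0
      rw [hg, tau_zero, commutatorElement_eq_one_iff_mul_comm, tau_mul, tau_mul, add_comm]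
    · rw [h.cls_lin, pow_zero]
    · rw [← htr (c 1) (e + 1) (by omega), mu, mu]
      exact Finset.prod_congr rfl fun k _ => by rw [h.cls_lin, ← pow_mul, pow_succ']
    · have hz : mu (h.cls (l + 1)) p (p - 2)
          (fun k => (⟨⁅(f k : Q), c k⁆, h.comm_mem (f k).2 _⟩ : M (l + 1))) = 1 := by
        rw [← htr (c 1) 0 (by omega), mu, mu]
        refine Finset.prod_congr rfl fun k hk => ?_
        rw [h.cls_lin, ← pow_mul, ← pow_succ', pow_zero, pow_one]
        rcases eq_or_ne k 0 with rfl | hk0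
        · rw [h.br_eq_one _ h0, one_pow]
        · have hx := h.cls_pow hl ⟨⁅(f k : Q), c 1⁆, h.comm_mem (f k).2 _⟩
          rw [← h.br_eq_cls] at hx
          rw [Finset.mem_range] at hk
          rw [pow_eq_pow_val hx, Nat.cast_pow, show p - 2 + 1 = p - 1 by omega,
            ZMod.pow_card_sub_one_eq_one (fun h' => hk0 (by
              have := congrArg ZMod.val h'
              rwa [ZMod.val_natCast_of_lt hk, ZMod.val_zero] at this)), ZMod.val_one, pow_one]
      rw [hz, one_pow, mom_zero, ZMod.val_zero, pow_zero]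
  · refine ⟨fun k => ⟨⁅(f k : Q), s⁆, h.comm_mem (f k).2 _⟩, diff g, fun k => ?_, ?_,
      fun e he => ?_, ?_, fun e he => ?_, ?_⟩
    · show ⁅x.1 k, s⁆ = _; rw [hf]
    · show ⁅x.2, sigma p⁆ = tau p (diff g)
      rw [hg, commutator_tau_sigma]
    · rw [mom_diff, neg_eq_zero]
      refine Finset.sum_eq_zero fun i hi => ?_
      rw [Finset.mem_range] at hi
      rw [hm i (by omega), mul_zero]
    · exact h.br_eq_one s h0
    · exact htr s e (by omega)
    · have h1 : mu (h.br l s) p (p - 2) f ^ ε.val =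
          h.br l s ⟨_, h.iter_mem l⟩ ^ (mom (l + 1) g).val :=
        mu_transfer (p := p) (h.cls l) _ (h.br l s) (fun b => h.br_eq_one s) hr
      have hmom : mom (l + 1 + 1) (diff g) = -((l + 2 : ℕ) : ZMod p) * mom (l + 1) g := by
        rw [mom_diff, Finset.sum_range_succ, Finset.sum_eq_zero fun i hi => by
          rw [Finset.mem_range] at hi; rw [hm i (by omega), mul_zero], zero_add]
        rw [show l + 1 + 1 = l + 2 by omega, Nat.choose_succ_self_right, neg_mul]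
      show mu (h.br l s) p (p - 2) f ^ _ = h.br l s ⟨_, h.iter_mem l⟩ ^ _
      have hp1 : mu (h.br l s) p (p - 2) f ^ p = 1 := by
        rw [mu, ← Finset.prod_pow]
        refine Finset.prod_eq_one fun k _ => ?_
        rw [← pow_mul, mul_comm, pow_mul, h.br_eq_cls, h.cls_pow hl, one_pow]
      have hp2 : h.br l s ⟨_, h.iter_mem l⟩ ^ p = 1 := by rw [h.br_eq_cls, h.cls_pow hl]
      rw [mul_comm, ← pow_val_mul hp1, h1, pow_val_mul hp2, hmom, mul_comm]

theorem closure_le_normalizer [Finite Q] (h : Hyp p M c s) {l : ℕ} (hl : l + 2 ≤ p) (ε : ZMod p) :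
    closure ({gen₁ c, gen₂ s} : Set (W Q p)) ≤
      normalizer (h.layer l hl (h.iter_mem l) ε : Set (W Q p)) := by
  set S := h.layer l hl (h.iter_mem l) ε
  rw [closure_le]
  intro a ha
  have key : ∀ m : ℕ, ∀ x ∈ S, a ^ m * x * (a ^ m)⁻¹ ∈ S := by
    intro m
    induction m with
    | zero => intro x hx; simpa using hx
    | succ m ih =>
      intro x hx
      have h1 := h.commutator_gen_mem_self hl ε (ih x hx) (a := a) (by simpa using ha)
      have h2 := S.mul_mem (S.inv_mem h1) (ih x hx)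
      convert h2 using 1
      simp only [commutatorElement_def, pow_succ']
      group
  have hN : a ^ (Nat.card Q * Nat.card (Equiv.Perm (ZMod p × ZMod p))) = 1 := by
    refine Prod.ext (funext fun k => ?_) ?_
    · show a.1 k ^ _ = 1
      rw [pow_mul, pow_card_eq_one', one_pow]
    · show a.2 ^ _ = 1
      rw [mul_comm, pow_mul, pow_card_eq_one', one_pow]
  set N := Nat.card Q * Nat.card (Equiv.Perm (ZMod p × ZMod p))
  have hN0 : 0 < N := Nat.mul_pos Nat.card_pos Nat.card_pos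
  have hinv : a⁻¹ = a ^ (N - 1) := by
    refine inv_eq_of_mul_eq_one_right ?_
    rw [← pow_succ', show N - 1 + 1 = N by omega, hN]
  rw [SetLike.mem_coe, mem_normalizer_iff]
  intro x
  refine ⟨fun hx => by simpa using key 1 x hx, fun hx => ?_⟩
  have h3 := key (N - 1) _ hx
  rw [← hinv] at h3
  convert h3 using 1
  group

theorem lcs_le_layer [Finite Q] (h : Hyp p M c s) : ∀ l, (hl : l + 2 ≤ p) → ∃ ε : ZMod p,
    (closure ({gen₁ c, gen₂ s} : Set (W Q p))).lowerCentralSeries (l + 1) ≤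
      h.layer l hl (h.iter_mem l) ε := by
  intro l
  induction l with
  | zero =>
    intro hl
    refine ⟨1, ?_⟩
    rw [Subgroup.lowerCentralSeries_succ, Subgroup.lowerCentralSeries_zero]
    refine commutator_closure_le (h.closure_le_normalizer hl 1) ?_
    have hcls : ∀ k, h.cls 0 ⟨⁅c k, s⁆, h.hc k⟩ = h.cls 0 ⟨_, h.iter_mem 0⟩ ^ k := fun k => by
      rw [← map_pow, ← inv_mul_eq_one, ← map_inv, ← map_mul, h.cls_eq_one_iff]
      have := (M 1).inv_mem (h.hcs k)
      simpa [mul_inv_rev, iter] using this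
    have hE := h.cls_pow hl ⟨_, h.iter_mem 0⟩
    have hmu : ∀ e, mu (h.cls 0) p e (fun k => (⟨⁅c k, s⁆, h.hc k⟩ : M 0)) =
        h.cls 0 ⟨_, h.iter_mem 0⟩ ^ (∑ y : ZMod p, y ^ (e + 1)).val := fun e => by
      rw [← prod_pow_range hE, mu]
      exact Finset.prod_congr rfl fun k _ => by rw [hcls, ← pow_mul, pow_succ']
    refine ⟨fun k => ⟨⁅c k, s⁆, h.hc k⟩, diff delta, fun k => rfl, commutator_tau_sigma _,
      fun e he => ?_, ?_, fun e he => ?_, ?_⟩
    · rw [Nat.le_zero.mp he, mom_diff, Finset.range_zero, Finset.sum_empty, neg_zero]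
    · rw [hcls, pow_zero]
    · rw [hmu, sum_pow_eq_zero (by omega), ZMod.val_zero, pow_zero]
    · have hsum : ∑ y : ZMod p, y ^ (p - 2 + 1) = -1 := by
        rw [show p - 2 + 1 = p - 1 by omega, ← mom_const_one]
        simp [mom]
      have hd : mom 1 (diff (delta : ZMod p → ZMod p)) = -1 := by
        rw [mom_diff, Finset.sum_range_one, Nat.choose_zero_right, Nat.cast_one, one_mul]
        simp [mom, delta]
      rw [hmu, ZMod.val_one, pow_one, hsum, hd]
  | succ l ih =>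
    intro hl
    obtain ⟨ε, hε⟩ := ih (by omega)
    refine ⟨-((l + 2 : ℕ) : ZMod p) * ε, ?_⟩
    rw [Subgroup.lowerCentralSeries_succ, commutator_le]
    intro x hx a ha
    have hnorm := h.closure_le_normalizer hl (-((l + 2 : ℕ) : ZMod p) * ε)
    induction ha using Subgroup.closure_induction with
    | mem a ha => exact h.commutator_gen_mem_succ hl ε (hε hx) (by simpa using ha)
    | one => simp
    | mul a b ha _ iha ihb =>
      rw [show ⁅x, a * b⁆ = ⁅x, a⁆ * (a * ⁅x, b⁆ * a⁻¹) by simp only [commutatorElement_def]; group]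
      exact mul_mem iha ((mem_normalizer_iff.1 (hnorm ha) _).1 ihb)
    | inv a ha iha =>
      rw [show ⁅x, a⁻¹⁆ = a⁻¹ * ⁅x, a⁆⁻¹ * a⁻¹⁻¹ by simp only [commutatorElement_def]; group]
      exact (mem_normalizer_iff.1 (hnorm (inv_mem ha)) _).1 (inv_mem iha)

end Hyp

/-- The Engel congruence. -/
theorem iter_mem_succ [Finite Q] (h : Hyp p M c s) : iter (c 1) s (p - 2) ∈ M (p - 1) := by
  have hp2 := (Fact.out : p.Prime).two_le
  obtain ⟨ε₀, hA⟩ := h.lcs_le_layer 0 hp2
  obtain ⟨ε, hN⟩ := h.lcs_le_layer (p - 2) (by omega)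
  rw [show p - 2 + 1 = p - 1 by omega] at hN
  have key := pow_mul_congr_closure (p := p) (a := (Hyp.gen₁ c : Hyp.W Q p)) (b := Hyp.gen₂ s)
    (A := h.layer 0 hp2 (h.iter_mem 0) ε₀) (N := h.layer (p - 2) (by omega) (h.iter_mem (p - 2)) ε)
    (h.closure_le_normalizer hp2 ε₀) (h.closure_le_normalizer (by omega) ε) (hA (by
      rw [Subgroup.lowerCentralSeries_succ, Subgroup.lowerCentralSeries_zero]
      exact commutator_mem_commutator (subset_closure (Or.inl rfl)) (subset_closure (Or.inr rfl))))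
    (fun x hx => by
      obtain ⟨f, g, hf, hg, -⟩ := hx
      refine h.mem_layer_of_deep _ ε (g := 0) (fun k => ?_) ?_ fun e _ => mom_zero e
      · show x.1 k ^ p ∈ M _
        rw [hf, show p - 2 + 1 = p - 1 by omega]
        exact h.hpow _ (f k).2
      · show x.2 ^ p = tau p 0
        rw [hg, tau_pow]
        congr 1
        funext y
        simp)
    hN
  obtain ⟨f, g, hf, hg, -, -, -, hr⟩ := key
  have hg1 : g = fun _ => 1 := by
    apply tau_injective
    rw [← hg]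
    show (tau p delta ^ p * sigma p ^ p)⁻¹ * (tau p delta * sigma p) ^ p = _
    rw [sigma_pow_prime, mul_one, tau_pow, tau_sigma_pow_prime, show p • (delta : ZMod p → ZMod p) = 0 by
      funext y; simp, tau_zero, inv_one, one_mul]
  have hf1 : ∀ k, h.cls (p - 2) (f k) = 1 := fun k => by
    rw [h.cls_eq_one_iff, ← hf, show p - 2 + 1 = p - 1 by omega]
    exact h.hprod k
  have hmom : mom (p - 2 + 1) (fun _ : ZMod p => (1 : ZMod p)) = -1 := by
    rw [show p - 2 + 1 = p - 1 by omega, mom_const_one]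
  rw [mu_eq_one _ _ _ hf1, one_pow, hg1, hmom,
    pow_val_neg (h.cls_pow (by omega) _), eq_comm, inv_eq_one, ZMod.val_one, pow_one,
    h.cls_eq_one_iff] at hr
  rwa [show p - 2 + 1 = p - 1 by omega] at hr

end CfsgLib.MaxClassPower
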