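import Cfsg.Agent.Lib.Struct78.MaxClassPower.Engel
import Cfsg.Agent.Lib.PGroup.MaxClassRank

/-!
The `p`-th power map between the layers of the lower central series of a group of maximal class.
-/

set_option autoImplicit false
set_option linter.style.haveILetI false

namespace CfsgLib.MaxClassPower

open Subgroup CfsgLib.MaxClassRank
open scoped commutatorElement

variable {G : Type*} [Group G] {p n : ℕ}

local notation "L" => Subgroup.lowerCentralSeries (⊤ : Subgroup G)

theorem lcs_comm {a b : ℕ} {x y : G} (hx : x ∈ L a) (hy : y ∈ L b) : ⁅x, y⁆ ∈ L (a + b + 1) :=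
  CfsgLib.HallPetrescu82.lcs_commutator a b (commutator_mem_commutator hx hy)

theorem lcs_comm_top {a : ℕ} {x : G} (hx : x ∈ L a) (y : G) : ⁅x, y⁆ ∈ L (a + 1) := by
  rw [Subgroup.lowerCentralSeries_succ]
  exact commutator_mem_commutator hx (mem_top y)

theorem lcs_anti {a b : ℕ} (h : a ≤ b) {x : G} (hx : x ∈ L b) : x ∈ L a :=
  (⊤ : Subgroup G).lowerCentralSeries_antitone h hx

theorem le_normalizer_of_normal' (N K : Subgroup G) [N.Normal] : K ≤ normalizer (N : Set G) := by
  rw [normalizer_eq_top_iff.mpr inferInstance]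
  exact le_top

theorem closure_lcs_le {d : ℕ} {x y : G} (h : ⁅x, y⁆ ∈ L d) :
    ∀ l, (closure ({x, y} : Set G)).lowerCentralSeries (l + 1) ≤ L (d + l) := by
  intro l
  induction l with
  | zero =>
    rw [Subgroup.lowerCentralSeries_succ, Subgroup.lowerCentralSeries_zero]
    exact commutator_closure_le (le_normalizer_of_normal' _ _) h
  | succ l ih =>
    rw [Subgroup.lowerCentralSeries_succ, ← Nat.add_assoc, Subgroup.lowerCentralSeries_succ (n := d + l)]
    exact commutator_mono ih le_top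

/-- Powers of products modulo the lower central series. -/
theorem pow_mul_mem [Fact p.Prime] {d : ℕ} (hU : ∀ z ∈ L d, z ^ p ∈ L (d + p - 1)) {x y : G}
    (h : ⁅x, y⁆ ∈ L d) : (x ^ p * y ^ p)⁻¹ * (x * y) ^ p ∈ L (d + p - 2) := by
  have hp := (Fact.out : p.Prime).two_le
  refine pow_mul_congr_closure (A := L d) (le_normalizer_of_normal' _ _) (le_normalizer_of_normal' _ _)
    h (fun z hz => lcs_anti (by omega) (hU z hz)) ?_
  rw [show p - 1 = p - 2 + 1 by omega, show d + p - 2 = d + (p - 2) by omega]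
  exact closure_lcs_le h _

/-- The elements of a term whose powers lie in a given term form a subgroup. -/
theorem le_of_pow_mem [Fact p.Prime] {a d m : ℕ} (hcomm : ∀ x ∈ L a, ∀ y ∈ L a, ⁅x, y⁆ ∈ L d)
    (hU : ∀ z ∈ L d, z ^ p ∈ L (d + p - 1)) (hm : m ≤ d + p - 2) {S : Subgroup G} (T : Set G)
    (hT : S = closure T) (hTa : ∀ x ∈ T, x ∈ L a ∧ x ^ p ∈ L m) : ∀ x ∈ S, x ^ p ∈ L m := by
  suffices h : ∀ x ∈ S, x ∈ L a ∧ x ^ p ∈ L m from fun x hx => (h x hx).2
  intro x hx
  rw [hT] at hx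
  induction hx using Subgroup.closure_induction with
  | mem x hx => exact hTa x hx
  | one => exact ⟨one_mem _, by rw [one_pow]; exact one_mem _⟩
  | mul x y _ _ hx hy =>
    refine ⟨mul_mem hx.1 hy.1, ?_⟩
    have h := lcs_anti hm (pow_mul_mem hU (hcomm x hx.1 y hy.1))
    have h2 := mul_mem (mul_mem hx.2 hy.2) h
    rwa [mul_inv_cancel_left] at h2
  | inv x _ hx => exact ⟨inv_mem hx.1, by rw [inv_pow]; exact inv_mem hx.2⟩

theorem mk_comm_pow_left {j : ℕ} {x : G} (hx : x ∈ L j) (s : G) (k : ℕ) :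
    ((⁅x ^ k, s⁆ : G) : G ⧸ L (j + 2)) = ((⁅x, s⁆ : G) : G ⧸ L (j + 2)) ^ k := by
  induction k with
  | zero => simp; exact (pow_zero _).symm
  | succ k ih =>
    rw [show ⁅x ^ (k + 1), s⁆ = ⁅x, ⁅x ^ k, s⁆⁆ * ⁅x ^ k, s⁆ * ⁅x, s⁆ by
      simp only [commutatorElement_def, pow_succ']; group]
    rw [QuotientGroup.mk_mul, QuotientGroup.mk_mul, ih, pow_succ,
      (QuotientGroup.eq_one_iff _).mpr (lcs_anti (by omega)
        (lcs_comm hx (lcs_comm_top (pow_mem hx k) s))), one_mul]

theorem mk_comm_pow_right {j : ℕ} {x : G} (hx : x ∈ L j) (g : G) (k : ℕ) :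
    ((⁅x, g ^ k⁆ : G) : G ⧸ L (j + 2)) = ((⁅x, g⁆ : G) : G ⧸ L (j + 2)) ^ k := by
  induction k with
  | zero => simp; exact (pow_zero _).symm
  | succ k ih =>
    rw [show ⁅x, g ^ (k + 1)⁆ = ⁅x, g⁆ * (⁅g, ⁅x, g ^ k⁆⁆ * ⁅x, g ^ k⁆) by
      simp only [commutatorElement_def, pow_succ']; group]
    have h : ⁅g, ⁅x, g ^ k⁆⁆ ∈ L (j + 2) := by
      rw [← commutatorElement_inv]
      exact inv_mem (lcs_comm_top (lcs_comm_top hx _) g)
    rw [QuotientGroup.mk_mul, QuotientGroup.mk_mul, ih, pow_succ',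
      (QuotientGroup.eq_one_iff _).mpr h, one_mul]

theorem mk_eq_iff_mem {m : ℕ} {x y : G} : (x : G ⧸ L m) = y ↔ x⁻¹ * y ∈ L m := QuotientGroup.eq

variable [Finite G] [hp : Fact p.Prime]

section Facts

variable (hG : Nat.card G = p ^ n) (hn : 3 ≤ n) (hbot : (⊤ : Subgroup G).lowerCentralSeries (n - 1) = ⊥)
  (hne : (⊤ : Subgroup G).lowerCentralSeries (n - 2) ≠ ⊥)

include hG hn hbot hne

/-- All `p`-th powers lie in the term `p - 1`. -/
theorem pow_mem_low : ∀ m, m ≤ p - 1 → m + 2 ≤ n → ∀ x : G, x ^ p ∈ L m := by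
  intro m
  induction m with
  | zero => intro _ _ x; rw [Subgroup.lowerCentralSeries_zero]; exact mem_top _
  | succ m ih =>
    intro hm hmn x
    rcases Nat.eq_zero_or_pos m with rfl | hm0
    · exact (abelianization_props hG hn hbot hne).2 x
    have hgood : ∀ s ∉ twoStep G m, s ^ p ∈ L (m + 1) := fun s hs => by
      have := pow_mem_of_not_mem_twoStep hG hn hbot hne (s := s) (a := m) (m := m + 1) hm0 (by omega)
        (ih (by omega) (by omega) s) fun i h1 h2 => by
          obtain rfl : i = m := by omega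
          exact hs
      rwa [max_eq_right (by omega)] at this
    have hreg : Cfsg.IsRegularPGroup p (G ⧸ L (m + 1)) :=
      CfsgLib.HallPetrescu82.isRegular_of_class_lt ((IsPGroup.of_card hG).to_quotient _) (by
        rw [← lcs_mk', eq_bot_iff, map_le_iff_le_comap, MonoidHom.comap_bot, QuotientGroup.ker_mk']
        exact (⊤ : Subgroup G).lowerCentralSeries_antitone hm)
    have hmem : ∀ s ∉ twoStep G m,
        s ∈ (CfsgLib.Regular82.omega hreg 1).comap (QuotientGroup.mk' (L (m + 1))) := fun s hs => by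
      show QuotientGroup.mk' _ s ^ p ^ 1 = 1
      rw [pow_one, ← map_pow]
      exact (QuotientGroup.eq_one_iff _).mpr (hgood s hs)
    obtain ⟨s, -, hs⟩ := SetLike.exists_of_lt (lt_top_iff_ne_top.mpr
      (twoStep_ne_top (G := G) hbot hne (i := m) (by omega)))
    have hx : x ∈ (CfsgLib.Regular82.omega hreg 1).comap (QuotientGroup.mk' (L (m + 1))) := by
      by_cases hx : x ∈ twoStep G m
      · have h1 : x * s ∉ twoStep G m := fun h => hs (by
          have := mul_mem (inv_mem hx) h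
          rwa [inv_mul_cancel_left] at this)
        have := mul_mem (hmem _ h1) (inv_mem (hmem s hs))
        rwa [mul_inv_cancel_right] at this
      · exact hmem x hx
    have h' : QuotientGroup.mk' (L (m + 1)) x ^ p ^ 1 = 1 := hx
    rw [pow_one, ← map_pow] at h'
    exact (QuotientGroup.eq_one_iff _).mp h'

/-- The power map goes `p - 1` steps down. -/
theorem pow_mem_shift (hpn : p + 1 ≤ n) {a : ℕ} (ha : 1 ≤ a) : ∀ x ∈ L a, x ^ p ∈ L (a + p - 1) := by
  have hp2 := hp.out.two_le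
  suffices H : ∀ d a, 1 ≤ a → n ≤ a + 1 + d → ∀ x ∈ L a, x ^ p ∈ L (a + p - 1) from
    H n a ha (by omega)
  intro d
  induction d with
  | zero =>
    intro a _ hna x hx
    have : x ∈ L (n - 1) := lcs_anti (by omega) hx
    rw [hbot, mem_bot] at this
    rw [this, one_pow]
    exact one_mem _
  | succ d ih =>
    intro a ha hna
    obtain ⟨a, rfl⟩ : ∃ b, a = b + 1 := ⟨a - 1, by omega⟩
    have hU := ih (a + 2) (by omega) (by omega)
    refine le_of_pow_mem (d := a + 2) (a := a + 1)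
      (fun x hx y hy => lcs_anti (by omega) (lcs_comm hx hy)) hU (by omega)
      {g | ∃ b ∈ L a, ∃ y ∈ (⊤ : Subgroup G), ⁅b, y⁆ = g}
      (by rw [Subgroup.lowerCentralSeries_succ]; exact Subgroup.commutator_def _ _) ?_
    rintro _ ⟨b, hb, y, -, rfl⟩
    have hc : ⁅b, y⁆ ∈ L (a + 1) := lcs_comm_top hb y
    refine ⟨hc, ?_⟩
    have he := lcs_anti (show a + 1 + p - 1 ≤ a + 2 + p - 2 by omega)
      (pow_mul_mem hU (lcs_comm_top hc y))
    have hyp : y ^ p ∈ L (p - 1) := pow_mem_low hG hn hbot hne (p - 1) le_rfl (by omega) y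
    have h2 : ⁅b, y ^ p⁆ ∈ L (a + 1 + p - 1) := lcs_anti (by omega) (lcs_comm hb hyp)
    set e := (⁅b, y⁆ ^ p * y ^ p)⁻¹ * (⁅b, y⁆ * y) ^ p with he_def
    have h3 : ⁅b, y⁆ ^ p = ⁅b, y ^ p⁆ * (y ^ p * e⁻¹ * (y ^ p)⁻¹) := by
      have h4 : (⁅b, y⁆ * y) ^ p = b * y ^ p * b⁻¹ := by
        rw [show ⁅b, y⁆ * y = b * y * b⁻¹ by simp [commutatorElement_def], conj_pow]
      rw [he_def, h4, commutatorElement_def b (y ^ p)]
      generalize ⁅b, y⁆ ^ p = C
      generalize y ^ p = S
      group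
    rw [h3]
    exact mul_mem h2 ((inferInstance : (L (a + 1 + p - 1)).Normal).conj_mem _ (inv_mem he) _)

/-- Outside the two step centralizers of the first `p - 1` layers the pattern repeats. -/
theorem not_mem_twoStep_periodic (hpn : p + 1 ≤ n) {i : ℕ} (hi : i + p + 1 ≤ n)
    (hexact : ∀ i', 1 ≤ i' → i' < i → ∀ x ∈ L i', x ∉ L (i' + 1) → x ^ p ∉ L (i' + p)) {s : G}
    (hs : ∀ j, 1 ≤ j → j ≤ p - 1 → s ∉ twoStep G j) :
    ∀ j, 1 ≤ j → j + 3 ≤ i + p → s ∉ twoStep G j := by
  have hp2 := hp.out.two_le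
  intro j
  induction j using Nat.strong_induction_on with
  | _ j ih =>
  intro hj hji hmem
  rcases Nat.lt_or_ge j p with hjp | hjp
  · exact hs j hj (by omega) hmem
  obtain ⟨l, hl⟩ : ∃ l, j + 1 = l + p := ⟨j + 1 - p, by omega⟩
  have hl1 : 1 ≤ l := by omega
  obtain ⟨x, hx, hx'⟩ := SetLike.not_le_iff_exists.mp (not_le_succ hbot hne (i := l) (by omega))
  have hsl : s ∉ twoStep G l := ih l (by omega) hl1 (by omega)
  set z := ⁅x, s⁆ with hz
  have hz1 : z ∈ L (l + 1) := lcs_comm_top hx s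
  have hz2 : z ∉ L (l + 1 + 1) := commutator_not_mem hG hn hbot hne hl1 (by omega) hsl hx hx'
  have hzp := hexact (l + 1) (by omega) (by omega) z hz1 hz2
  refine hzp ?_
  set y := s * x * s⁻¹ with hy
  have hy1 : y ∈ L l := (inferInstance : (L l).Normal).conj_mem x hx s
  have he := lcs_anti (show l + 1 + p ≤ l + 3 + p - 2 by omega)
    (pow_mul_mem (fun w hw => pow_mem_shift hG hn hbot hne hpn (by omega) w hw)
      (lcs_anti (show l + 3 ≤ l + 1 + l + 1 by omega) (lcs_comm hz1 hy1)))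
  set e := (z ^ p * y ^ p)⁻¹ * (z * y) ^ p with he_def
  have hxp : x ^ p ∈ L j := lcs_anti (by omega) (pow_mem_shift hG hn hbot hne hpn hl1 x hx)
  have h2 : ⁅x ^ p, s⁆ ∈ L (l + 1 + p) := lcs_anti (by omega) (mem_twoStep_iff.mp hmem _ hxp)
  have h3 : z ^ p = x ^ p * e⁻¹ * (x ^ p)⁻¹ * ⁅x ^ p, s⁆ := by
    have h4 : z * y = x := by rw [hz, hy, commutatorElement_def]; group
    have h5 : y ^ p = s * x ^ p * s⁻¹ := by rw [hy, conj_pow]
    rw [he_def, h4, h5, commutatorElement_def]
    group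
  rw [h3]
  exact mul_mem ((inferInstance : (L (l + 1 + p)).Normal).conj_mem _ (inv_mem he) _) h2

/-- Outside the next term the power map hits the layer exactly. -/
theorem pow_not_mem (hpn : p + 1 ≤ n) : ∀ i, 1 ≤ i → i + p + 1 ≤ n →
    ∀ x ∈ L i, x ∉ L (i + 1) → x ^ p ∉ L (i + p) := by
  have hp2 := hp.out.two_le
  intro i
  induction i using Nat.strong_induction_on with
  | _ i ih =>
  intro hi hin x hx hx' hxp
  classical
  obtain ⟨hab, -⟩ := abelianization_props hG hn hbot hne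
  -- all powers from the layer are deep
  have hbad : ∀ y ∈ L i, y ^ p ∈ L (i + p) := by
    intro y hy
    refine le_of_pow_mem (d := i + 2) (a := i) (fun u hu v hv => lcs_anti (by omega) (lcs_comm hu hv))
      (pow_mem_shift hG hn hbot hne hpn (by omega)) (by omega)
      ((L (i + 1) : Set G) ∪ {x}) rfl ?_ y ?_
    · rintro u (hu | rfl)
      · exact ⟨lcs_anti (by omega) hu,
          lcs_anti (by omega) (pow_mem_shift hG hn hbot hne hpn (by omega) u hu)⟩
      · exact ⟨hx, hxp⟩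
    · rw [Subgroup.closure_union, Subgroup.closure_eq, ← zpowers_eq_closure]
      exact le_sup_zpowers hG hn hbot hne hi (by omega) hx hx' hy
  -- a suitable element
  let t : Finset ℕ := if i = 1 then Finset.range p else insert (i + p - 2) (Finset.Icc 1 (p - 1))
  have htmem : ∀ j ∈ t, j + 3 ≤ n := by
    intro j hj
    simp only [t] at hj
    split_ifs at hj <;> simp only [Finset.mem_insert, Finset.mem_range, Finset.mem_Icc] at hj <;> omega
  have htcard : t.card ≤ p := by
    simp only [t]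
    split_ifs
    · rw [Finset.card_range]
    · refine (Finset.card_insert_le _ _).trans ?_
      rw [Nat.card_Icc]
      omega
  obtain ⟨s, hs⟩ := exists_not_mem (L 1) hab t htcard (twoStep G)
    fun j hj => ⟨lcs_one_le_twoStep j, twoStep_ne_top hbot hne (htmem j hj)⟩
  have hs1 : ∀ j, 1 ≤ j → j ≤ p - 1 → s ∉ twoStep G j := fun j h1 h2 => hs j (by
    simp only [t]
    split_ifs <;> simp only [Finset.mem_insert, Finset.mem_range, Finset.mem_Icc] <;> omega)
  have hsmid := not_mem_twoStep_periodic hG hn hbot hne hpn hin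
    (fun i' h1 h2 => ih i' h2 h1 (by omega)) hs1
  have hsI : ∀ j, i ≤ j + 1 → j + 2 ≤ i + p → s ∉ twoStep G j := by
    intro j h1 h2
    rcases Nat.lt_or_ge (j + 2) (i + p) with h3 | h3
    · rcases Nat.eq_zero_or_pos j with rfl | hj
      · refine hs 0 ?_
        simp only [t]
        rw [if_pos (by omega), Finset.mem_range]
        omega
      · exact hsmid j hj (by omega)
    · refine hs j ?_
      simp only [t]
      split_ifs <;> simp only [Finset.mem_insert, Finset.mem_range, Finset.mem_Icc] <;> omega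
  have hsp : s ^ p ∈ L p := by
    have := pow_mem_of_not_mem_twoStep hG hn hbot hne (s := s) (a := p - 1) (m := p) (by omega)
      (by omega) (pow_mem_low hG hn hbot hne (p - 1) le_rfl (by omega) s)
      fun l h1 h2 => hs1 l (by omega) (by omega)
    rwa [max_eq_right (by omega)] at this
  obtain ⟨b, hb, hbs⟩ : ∃ b ∈ L (i - 1), ⁅b, s⁆ ∉ L (i + 1) := by
    by_contra h
    push Not at h
    refine hsI (i - 1) (by omega) (by omega) (mem_twoStep_iff.mpr fun y hy => ?_)
    rw [show i - 1 + 2 = i + 1 by omega]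
    exact h y hy
  have hck : ∀ k, ⁅b ^ k, s⁆ ∈ L i := fun k =>
    lcs_anti (by omega) (lcs_comm_top (pow_mem hb k) s)
  let M : ℕ → Subgroup G := fun l => L (i + 1 + l)
  have hcong : ∀ k, (⁅b, s⁆ ^ k)⁻¹ * ⁅b ^ k, s⁆ ∈ L (i + 1) := fun k => by
    have h := (mk_comm_pow_left hb s k).symm
    rw [← QuotientGroup.mk_pow, mk_eq_iff_mem] at h
    exact lcs_anti (by omega) h
  have hyp : Hyp p M (fun k => ⁅b ^ k, s⁆) s :=
    { anti := fun u v huv => (⊤ : Subgroup G).lowerCentralSeries_antitone (by omega)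
      comm := fun l => by
        show ⁅L (i + 1 + l), (⊤ : Subgroup G)⁆ ≤ L (i + 1 + (l + 1))
        rw [← Nat.add_assoc, Subgroup.lowerCentralSeries_succ]
      hc := fun k => lcs_comm_top (hck k) s
      hcs := fun k => by
        show (⁅⁅b ^ 1, s⁆, s⁆ ^ k)⁻¹ * ⁅⁅b ^ k, s⁆, s⁆ ∈ L (i + 1 + 1)
        rw [pow_one]
        have hc1 : ⁅b, s⁆ ∈ L i := by simpa using hck 1
        set u := (⁅b, s⁆ ^ k)⁻¹ * ⁅b ^ k, s⁆ with hu
        have h1 : ⁅⁅b ^ k, s⁆, s⁆ =
            ⁅⁅b, s⁆ ^ k, ⁅u, s⁆⁆ * ⁅u, s⁆ * ⁅⁅b, s⁆ ^ k, s⁆ := by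
          have h2 : ⁅b ^ k, s⁆ = ⁅b, s⁆ ^ k * u := by rw [hu, mul_inv_cancel_left]
          rw [h2]
          generalize ⁅b, s⁆ ^ k = C
          simp only [commutatorElement_def]
          group
        rw [← mk_eq_iff_mem, QuotientGroup.mk_pow, ← mk_comm_pow_left hc1 s k, h1]
        rw [QuotientGroup.mk_mul, QuotientGroup.mk_mul,
          (QuotientGroup.eq_one_iff ⁅u, s⁆).mpr (lcs_comm_top (hcong k) s),
          (QuotientGroup.eq_one_iff _).mpr (lcs_anti (by omega)
            (lcs_comm (pow_mem hc1 k) (lcs_comm_top (hcong k) s))), one_mul, one_mul]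
      hlin := fun l y hy k => by
        refine mul_mem (inv_mem (pow_mem ?_ k)) ?_ <;>
          exact lcs_anti (by omega) (lcs_comm hy (hck _))
      hpow := fun y hy => lcs_anti (by omega)
        (pow_mem_shift hG hn hbot hne hpn (by omega) y (lcs_anti (a := i + 1) (by omega) hy))
      hprod := fun k => by
        show (⁅b ^ k, s⁆ ^ p * s ^ p)⁻¹ * (⁅b ^ k, s⁆ * s) ^ p ∈ L (i + 1 + (p - 1))
        rw [show i + 1 + (p - 1) = i + p by omega]
        have h1 : (⁅b ^ k, s⁆ * s) ^ p = ⁅b ^ k, s ^ p⁆ * s ^ p := by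
          rw [show ⁅b ^ k, s⁆ * s = b ^ k * s * (b ^ k)⁻¹ by simp [commutatorElement_def], conj_pow]
          simp [commutatorElement_def]
        have h2 : (⁅b ^ k, s⁆ ^ p)⁻¹ * ⁅b ^ k, s ^ p⁆ ∈ L (i + p) :=
          mul_mem (inv_mem (hbad _ (hck k))) (lcs_anti (by omega) (lcs_comm (pow_mem hb k) hsp))
        have h3 := (inferInstance : (L (i + p)).Normal).conj_mem _ h2 (s ^ p)⁻¹
        rw [h1]
        convert h3 using 1
        group }
  haveI : ∀ l, (M l).Normal := fun l => (inferInstance : (L (i + 1 + l)).Normal)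
  have hfin := iter_mem_succ hyp
  have hiter : ∀ l, l + 2 ≤ p →
      iter ((fun k => ⁅b ^ k, s⁆) 1) s l ∉ L (i + 1 + l + 1) := by
    intro l
    induction l with
    | zero =>
      intro _
      show ⁅⁅b ^ 1, s⁆, s⁆ ∉ L (i + 1 + 0 + 1)
      exact commutator_not_mem hG hn hbot hne hi (by omega) (hsI i (by omega) (by omega)) (hck 1)
        (by rwa [pow_one])
    | succ l ihl =>
      intro hl
      show ⁅iter ((fun k => ⁅b ^ k, s⁆) 1) s l, s⁆ ∉ L (i + 1 + (l + 1) + 1)
      rw [show i + 1 + (l + 1) + 1 = i + 1 + l + 2 by omega]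
      exact commutator_not_mem hG hn hbot hne (by omega) (by omega) (hsI _ (by omega) (by omega))
        (hyp.iter_mem l) (ihl (by omega))
  refine hiter (p - 2) (by omega) ?_
  rw [show i + 1 + (p - 2) + 1 = i + 1 + (p - 1) by omega]
  exact hfin

/-- Not all `p`-th powers lie in the term `p`. -/
theorem exists_pow_not_mem (hpn : p + 1 ≤ n) : ∃ x : G, x ^ p ∉ L p := by
  have hp2 := hp.out.two_le
  by_contra hcon
  push Not at hcon
  classical
  obtain ⟨hab, -⟩ := abelianization_props hG hn hbot hne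
  obtain ⟨s, hs⟩ := exists_not_mem (L 1) hab (Finset.range (p - 1))
    (by rw [Finset.card_range]; omega) (twoStep G) fun j hj => by
      rw [Finset.mem_range] at hj
      exact ⟨lcs_one_le_twoStep j, twoStep_ne_top hbot hne (by omega)⟩
  obtain ⟨b, hbs⟩ : ∃ b, ⁅b, s⁆ ∉ L 2 := by
    by_contra h
    push Not at h
    exact hs 0 (Finset.mem_range.mpr (by omega)) (mem_twoStep_iff.mpr fun y _ => h y)
  let M : ℕ → Subgroup G := fun l => L (l + 1)
  have hb0 : ∀ g : G, g ∈ L 0 := fun g => by rw [Subgroup.lowerCentralSeries_zero]; exact mem_top g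
  have hyp : Hyp p M (fun k => b ^ k) s :=
    { anti := fun u v huv => (⊤ : Subgroup G).lowerCentralSeries_antitone (by omega)
      comm := fun l => (Subgroup.lowerCentralSeries_succ (G := G) (n := l + 1) ⊤).ge
      hc := fun k => lcs_comm_top (hb0 _) s
      hcs := fun k => by
        show (⁅b ^ 1, s⁆ ^ k)⁻¹ * ⁅b ^ k, s⁆ ∈ L (0 + 2)
        rw [pow_one, ← mk_eq_iff_mem, QuotientGroup.mk_pow]
        exact (mk_comm_pow_left (hb0 b) s k).symm
      hlin := fun l y hy k => by
        show (⁅y, b ^ 1⁆ ^ k)⁻¹ * ⁅y, b ^ k⁆ ∈ L (l + 2 + 1)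
        rw [show l + 2 + 1 = l + 1 + 2 by omega, pow_one, ← mk_eq_iff_mem, QuotientGroup.mk_pow]
        exact (mk_comm_pow_right hy b k).symm
      hpow := fun y _ => lcs_anti (by omega) (hcon y)
      hprod := fun k => by
        show _ ∈ L (p - 1 + 1)
        rw [show p - 1 + 1 = p by omega]
        exact mul_mem (inv_mem (mul_mem (hcon _) (hcon _))) (hcon _) }
  haveI : ∀ l, (M l).Normal := fun l => (inferInstance : (L (l + 1)).Normal)
  have hfin := iter_mem_succ hyp
  have hiter : ∀ l, l + 2 ≤ p → iter ((fun k => b ^ k) 1) s l ∉ L (l + 2) := by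
    intro l
    induction l with
    | zero => intro _; show ⁅b ^ 1, s⁆ ∉ L 2; rwa [pow_one]
    | succ l ihl =>
      intro hl
      exact commutator_not_mem hG hn hbot hne (by omega) (by omega)
        (hs _ (Finset.mem_range.mpr (by omega))) (hyp.iter_mem l) (ihl (by omega))
  refine hiter (p - 2) (by omega) ?_
  rw [show p - 2 + 2 = p - 1 + 1 by omega]
  exact hfin

end Facts

end CfsgLib.MaxClassPower
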