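import Cfsg.Agent.Lib.H82.HallPetrescu

/-!
A congruence of Engel type for `p`-th powers of products, from the Hall–Petrescu formula read in a
product with the wreath product of two groups of order `p`.
-/

set_option autoImplicit false
set_option linter.style.haveILetI false

namespace CfsgLib.MaxClassPower

open Subgroup
open scoped commutatorElement

variable {W : Type*} [Group W]

/-- The derived subgroup of a two-generator subgroup lies in any normalised subgroup containing the
commutator of the generators. -/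
theorem commutator_closure_le {a b : W} {A : Subgroup W}
    (hA : closure ({a, b} : Set W) ≤ normalizer (A : Set W)) (hab : ⁅a, b⁆ ∈ A) :
    ⁅closure ({a, b} : Set W), closure ({a, b} : Set W)⁆ ≤ A := by
  set K := closure ({a, b} : Set W)
  have hconj : ∀ g ∈ K, ∀ x ∈ A, g * x * g⁻¹ ∈ A := fun g hg x hx =>
    (mem_normalizer_iff.1 (hA hg) x).1 hx
  rw [commutator_le]
  -- for a fixed second entry
  have key : ∀ y ∈ K, ⁅a, y⁆ ∈ A → ⁅b, y⁆ ∈ A → ∀ x ∈ K, ⁅x, y⁆ ∈ A := by
    intro y hy h1 h2 x hx
    induction hx using Subgroup.closure_induction with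
    | mem x hx => rcases hx with rfl | rfl <;> assumption
    | one => simp
    | mul x x' hx _ ih ih' =>
      rw [show ⁅x * x', y⁆ = x * ⁅x', y⁆ * x⁻¹ * ⁅x, y⁆ by
        simp only [commutatorElement_def]; group]
      exact mul_mem (hconj x hx _ ih') ih
    | inv x hx ih =>
      rw [show ⁅x⁻¹, y⁆ = x⁻¹ * ⁅x, y⁆⁻¹ * x⁻¹⁻¹ by simp only [commutatorElement_def]; group]
      exact hconj _ (inv_mem hx) _ (inv_mem ih)
  have ha : a ∈ K := subset_closure (Or.inl rfl)
  have hb : b ∈ K := subset_closure (Or.inr rfl)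
  have hba : ⁅b, a⁆ ∈ A := by rw [← commutatorElement_inv]; exact inv_mem hab
  have hxa := key a ha (by simp) hba
  have hxb := key b hb hab (by simp)
  intro x hx y hy
  refine key y hy ?_ ?_ x hx
  · rw [← commutatorElement_inv]; exact inv_mem (hxa y hy)
  · rw [← commutatorElement_inv]; exact inv_mem (hxb y hy)

/-- Hall–Petrescu modulo a normal subgroup. -/
theorem pow_mul_congr {p : ℕ} [Fact p.Prime] (N : Subgroup W) [N.Normal]
    (hlcs : (⊤ : Subgroup W).lowerCentralSeries (p - 1) ≤ N)
    (hpow : ∀ x ∈ commutator W, x ^ p ∈ N) (a b : W) :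
    (a ^ p * b ^ p)⁻¹ * (a * b) ^ p ∈ N := by
  set f := QuotientGroup.mk' N
  have hfs : Function.Surjective f := QuotientGroup.mk'_surjective N
  have hc : (⊤ : Subgroup (W ⧸ N)).lowerCentralSeries (p - 1) = ⊥ := by
    rw [← Subgroup.map_top_of_surjective f hfs, ← Subgroup.map_lowerCentralSeries,
      Subgroup.map_eq_bot_iff]
    exact hlcs.trans (QuotientGroup.ker_mk' N).ge
  obtain ⟨c, hc, heq⟩ := CfsgLib.HallPetrescu82.mul_pow_prime_pow hc (f a) (f b) 1
  have hbot : Cfsg.powerClosure p 1 (commutator (W ⧸ N)) = ⊥ := by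
    refine CfsgLib.Regular82.powerClosure_eq_bot fun x hx => ?_
    rw [← Subgroup.top_lowerCentralSeries_one, ← Subgroup.map_top_of_surjective f hfs,
      ← Subgroup.map_lowerCentralSeries, Subgroup.top_lowerCentralSeries_one] at hx
    obtain ⟨y, hy, rfl⟩ := hx
    rw [pow_one, ← map_pow]
    exact (QuotientGroup.eq_one_iff _).mpr (hpow y hy)
  rw [hbot, Subgroup.mem_bot] at hc
  rw [hc, mul_one, pow_one] at heq
  refine (QuotientGroup.eq_one_iff _).mp ?_
  show f ((a ^ p * b ^ p)⁻¹ * (a * b) ^ p) = 1
  rw [map_mul, map_inv, map_mul, map_pow, map_pow, map_pow, map_mul, heq, inv_mul_cancel]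

/-- Hall–Petrescu for a two-generator subgroup. -/
theorem pow_mul_congr_closure {p : ℕ} [Fact p.Prime] {a b : W} {A N : Subgroup W}
    (hA : closure ({a, b} : Set W) ≤ normalizer (A : Set W))
    (hN : closure ({a, b} : Set W) ≤ normalizer (N : Set W)) (hab : ⁅a, b⁆ ∈ A)
    (hpow : ∀ x ∈ A, x ^ p ∈ N)
    (hlcs : (closure ({a, b} : Set W)).lowerCentralSeries (p - 1) ≤ N) :
    (a ^ p * b ^ p)⁻¹ * (a * b) ^ p ∈ N := by
  set K := closure ({a, b} : Set W)
  haveI := normal_subgroupOf_of_le_normalizer hN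
  have hmono : ∀ i, ((⊤ : Subgroup K).map K.subtype).lowerCentralSeries i ≤ K.lowerCentralSeries i := by
    intro i
    rw [← MonoidHom.range_eq_map, Subgroup.range_subtype]
  have h := pow_mul_congr (p := p) (N.subgroupOf K) (fun x hx => mem_subgroupOf.mpr (hlcs (hmono _ (by
      rw [← Subgroup.map_lowerCentralSeries]; exact mem_map_of_mem K.subtype hx))))
    (fun x hx => mem_subgroupOf.mpr (hpow _ (commutator_closure_le hA hab (by
      rw [← Subgroup.map_subtype_commutator]; exact mem_map_of_mem K.subtype hx))))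
    ⟨a, subset_closure (Or.inl rfl)⟩ ⟨b, subset_closure (Or.inr rfl)⟩
  simpa using mem_subgroupOf.mp h

/-! The model: translations of `ZMod p × ZMod p` along the second coordinate. -/

section Model

variable (p : ℕ) [Fact p.Prime]

/-- Translation of the second coordinate by a function of the first. -/
def tau (g : ZMod p → ZMod p) : Equiv.Perm (ZMod p × ZMod p) where
  toFun z := (z.1, z.2 + g z.1)
  invFun z := (z.1, z.2 - g z.1)
  left_inv z := by simp
  right_inv z := by simp

/-- The shift of the first coordinate. -/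
def sigma : Equiv.Perm (ZMod p × ZMod p) where
  toFun z := (z.1 + 1, z.2)
  invFun z := (z.1 - 1, z.2)
  left_inv z := by simp
  right_inv z := by simp

variable {p}

@[simp] theorem tau_apply (g : ZMod p → ZMod p) (z : ZMod p × ZMod p) :
    tau p g z = (z.1, z.2 + g z.1) := rfl

@[simp] theorem sigma_apply (z : ZMod p × ZMod p) : sigma p z = (z.1 + 1, z.2) := rfl

theorem tau_mul (f g : ZMod p → ZMod p) : tau p f * tau p g = tau p (f + g) := by
  ext z <;> simp [Equiv.Perm.mul_apply] <;> ring

theorem tau_zero : tau p 0 = 1 := by ext z <;> simp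

theorem tau_inv (f : ZMod p → ZMod p) : (tau p f)⁻¹ = tau p (-f) := by
  rw [inv_eq_iff_mul_eq_one, tau_mul, add_neg_cancel, tau_zero]

theorem tau_pow (f : ZMod p → ZMod p) (m : ℕ) : tau p f ^ m = tau p (m • f) := by
  induction m with
  | zero => rw [pow_zero, zero_smul, tau_zero]
  | succ m ih => rw [pow_succ, ih, tau_mul, succ_nsmul]

theorem tau_injective : Function.Injective (tau p) := fun f g h => funext fun x => by
  simpa using congrArg Prod.snd (DFunLike.congr_fun h (x, (0 : ZMod p)))

/-- The moments of a function. -/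
def mom (e : ℕ) (f : ZMod p → ZMod p) : ZMod p := ∑ x, x ^ e * f x

theorem mom_add (e : ℕ) (f g : ZMod p → ZMod p) : mom e (f + g) = mom e f + mom e g := by
  simp only [mom, Pi.add_apply, mul_add, Finset.sum_add_distrib]

theorem mom_zero (e : ℕ) : mom e (0 : ZMod p → ZMod p) = 0 := by simp [mom]

theorem mom_neg (e : ℕ) (f : ZMod p → ZMod p) : mom e (-f) = -mom e f := by
  simp only [mom, Pi.neg_apply, mul_neg, Finset.sum_neg_distrib]

/-- The difference along the shift. -/
def diff (f : ZMod p → ZMod p) : ZMod p → ZMod p := fun x => f x - f (x - 1)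

theorem commutator_tau_sigma (f : ZMod p → ZMod p) : ⁅tau p f, sigma p⁆ = tau p (diff f) := by
  rw [commutatorElement_def, mul_inv_eq_iff_eq_mul, mul_inv_eq_iff_eq_mul]
  ext z <;> simp [Equiv.Perm.mul_apply, diff] <;> ring

theorem mom_diff (e : ℕ) (f : ZMod p → ZMod p) :
    mom e (diff f) = -∑ l ∈ Finset.range e, (e.choose l : ZMod p) * mom l f := by
  have h1 : ∑ x : ZMod p, x ^ e * f (x - 1) = ∑ x : ZMod p, (x + 1) ^ e * f x := by
    refine Fintype.sum_equiv (Equiv.subRight 1) _ _ fun x => ?_
    simp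
  have h2 : ∀ x : ZMod p, (x + 1) ^ e * f x =
      ∑ l ∈ Finset.range (e + 1), (e.choose l : ZMod p) * (x ^ l * f x) := fun x => by
    rw [add_pow, Finset.sum_mul]
    exact Finset.sum_congr rfl fun l _ => by rw [one_pow]; ring
  simp only [mom, diff, mul_sub, Finset.sum_sub_distrib]
  rw [h1, Finset.sum_congr rfl fun x _ => h2 x, Finset.sum_comm, Finset.sum_range_succ,
    Nat.choose_self]
  simp only [← Finset.mul_sum, Nat.cast_one, one_mul]
  ring

theorem mom_const_one : mom (p - 1) (fun _ : ZMod p => (1 : ZMod p)) = -1 := by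
  simp only [mom, mul_one]
  rw [← Finset.sum_erase_add _ _ (Finset.mem_univ (0 : ZMod p))]
  have hp := (Fact.out : p.Prime).two_le
  rw [zero_pow (by omega), add_zero, Finset.sum_congr rfl
    fun x hx => ZMod.pow_card_sub_one_eq_one (Finset.ne_of_mem_erase hx)]
  rw [Finset.sum_const, Finset.card_erase_of_mem (Finset.mem_univ _), Finset.card_univ, ZMod.card,
    nsmul_one, Nat.cast_sub (by omega : 1 ≤ p), ZMod.natCast_self, Nat.cast_one, zero_sub]

/-- The function supported at `0`. -/
def delta : ZMod p → ZMod p := fun x => if x = 0 then 1 else 0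

theorem tau_sigma_pow (m : ℕ) : ∀ z : ZMod p × ZMod p,
    ((tau p delta * sigma p) ^ m) z =
      (z.1 + (m : ZMod p), z.2 + ∑ i ∈ Finset.range m, delta (z.1 + ((i + 1 : ℕ) : ZMod p))) := by
  induction m with
  | zero => simp
  | succ m ih =>
    intro z
    rw [pow_succ', Equiv.Perm.mul_apply, ih]
    simp [Equiv.Perm.mul_apply, Finset.sum_range_succ, add_assoc]

theorem tau_sigma_pow_prime :
    (tau p delta * sigma p) ^ p = tau p (fun _ => 1) := by
  refine Equiv.ext fun z => ?_
  rw [tau_sigma_pow, tau_apply, ZMod.natCast_self, add_zero]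
  congr 2
  have h1 : ∀ i ∈ Finset.range p, delta (z.1 + ((i + 1 : ℕ) : ZMod p)) =
      if i = (-z.1 - 1 : ZMod p).val then 1 else 0 := by
    intro i hi
    rw [Finset.mem_range] at hi
    simp only [delta]
    refine if_congr ⟨fun h => ?_, fun h => ?_⟩ rfl rfl
    · rw [show -z.1 - 1 = (i : ZMod p) by push_cast at h; linear_combination -h,
        ZMod.val_natCast_of_lt hi]
    · rw [Nat.cast_succ, h, ZMod.natCast_zmod_val]; ring
  rw [Finset.sum_congr rfl h1, Finset.sum_ite_eq', if_pos (Finset.mem_range.mpr (ZMod.val_lt _))]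

theorem sigma_pow_prime : sigma p ^ p = 1 := by
  have h : ∀ (m : ℕ) (z : ZMod p × ZMod p), (sigma p ^ m) z = (z.1 + (m : ZMod p), z.2) := by
    intro m
    induction m with
    | zero => simp
    | succ m ih => intro z; rw [pow_succ', Equiv.Perm.mul_apply, ih]; simp [add_assoc]
  refine Equiv.ext fun z => ?_
  rw [h, ZMod.natCast_self, add_zero]
  rfl

end Model

end CfsgLib.MaxClassPower
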